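import Groth.Agent.BELib.Main
import Groth.Agent.S9278

/-!
# The Buchsbaum–Eisenbud criterion: exactness gives rank and depth
-/

set_option autoImplicit false
universe u

open Matrix RingTheory.Sequence IsLocalRing
open scoped Pointwise

namespace BELib

section general

variable {R : Type u} [CommRing R]

theorem minorIdeal_mul_le_left {a b c : ℕ} (M : Matrix (Fin a) (Fin b) R) (B : Matrix (Fin b) (Fin c) R) (r : ℕ) :
    CAlgX.minorIdeal (M * B) r ≤ CAlgX.minorIdeal M r := by
  classical
  rw [CAlgX.minorIdeal, Ideal.span_le]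
  rintro _ ⟨⟨f, g⟩, rfl⟩
  have h : ((M * B).submatrix f g).det =
      (Matrix.detRowAlternating (n := Fin r) (R := R)).toMultilinearMap
        (fun j => ∑ k, B k (g j) • fun i => M (f i) k) := by
    rw [← Matrix.det_transpose]
    show Matrix.det _ = Matrix.det _
    congr 1
    ext j i
    simp [Matrix.mul_apply, Finset.sum_apply, mul_comm]
  show ((M * B).submatrix f g).det ∈ CAlgX.minorIdeal M r
  rw [h, MultilinearMap.map_sum]
  refine Ideal.sum_mem _ fun k _ => ?_
  rw [MultilinearMap.map_smul_univ, smul_eq_mul]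
  refine Ideal.mul_mem_left _ _ ?_
  have hk : (Matrix.detRowAlternating (n := Fin r) (R := R)).toMultilinearMap (fun j i => M (f i) (k j)) =
      (M.submatrix f k).det := by
    rw [← Matrix.det_transpose (M.submatrix f k)]
    rfl
  rw [hk]
  exact Ideal.subset_span ⟨(f, k), rfl⟩

theorem minorIdeal_succ_le {a b : ℕ} (M : Matrix (Fin a) (Fin b) R) (r : ℕ) :
    CAlgX.minorIdeal M (r + 1) ≤ CAlgX.minorIdeal M r := by
  classical
  rw [CAlgX.minorIdeal, Ideal.span_le]
  rintro _ ⟨⟨f, g⟩, rfl⟩
  show (M.submatrix f g).det ∈ CAlgX.minorIdeal M r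
  rw [Matrix.det_succ_row_zero]
  refine Ideal.sum_mem _ fun j _ => Ideal.mul_mem_left _ _ ?_
  rw [Matrix.submatrix_submatrix]
  exact Ideal.subset_span ⟨(f ∘ Fin.succ, g ∘ j.succAbove), rfl⟩

theorem minorIdeal_le_of_le {a b : ℕ} (M : Matrix (Fin a) (Fin b) R) {r s : ℕ} (h : r ≤ s) :
    CAlgX.minorIdeal M s ≤ CAlgX.minorIdeal M r := by
  induction s, h using Nat.le_induction with
  | base => exact le_rfl
  | succ s _ ih => exact (minorIdeal_succ_le M s).trans ih

theorem minorIdeal_zero {a b : ℕ} (M : Matrix (Fin a) (Fin b) R) : CAlgX.minorIdeal M 0 = ⊤ :=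
  Groth.Agent.CAlgBasics.minorIdeal_zero_eq_top M

/-- A rank function of a complex is unique. -/
theorem rank_unique {e : ℕ} {n r r' : ℕ → ℕ} (h0 : r e = 0) (h0' : r' e = 0)
    (hr : ∀ i, i < e → r i + r (i + 1) = n (i + 1)) (hr' : ∀ i, i < e → r' i + r' (i + 1) = n (i + 1)) :
    ∀ k i, i + k = e → r i = r' i := by
  intro k
  induction k with
  | zero => intro i hi; obtain rfl : i = e := by omega
            rw [h0, h0']
  | succ k ih =>
    intro i hi
    have := ih (i + 1) (by omega)
    have := hr i (by omega)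
    have := hr' i (by omega)
    omega

end general

/-- An exact complex over a local ring of depth zero splits. -/
theorem split_of_no_regular {S : Type u} [CommRing S] [IsLocalRing S] [IsNoetherianRing S]
    (hreg : ∀ x ∈ maximalIdeal S, ¬ IsRegular x)
    (e : ℕ) (n : ℕ → ℕ) (M : (i : ℕ) → Matrix (Fin (n i)) (Fin (n (i + 1))) S) (hMe : M e = 0)
    (hex : ∀ i, i < e → LinearMap.ker (M i).mulVecLin = LinearMap.range (M (i + 1)).mulVecLin) :
    ∀ k i, i + k = e → ∃ r : ℕ → ℕ, r e = 0 ∧ ∀ j, i ≤ j → j ≤ e →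
      CAlgX.minorIdeal (M j) (r j) = ⊤ ∧ CAlgX.minorIdeal (M j) (r j + 1) = ⊥ ∧
        (j < e → r j + r (j + 1) = n (j + 1)) := by
  classical
  intro k
  induction k with
  | zero =>
    intro i hi
    refine ⟨fun _ => 0, rfl, fun j hj hje => ?_⟩
    obtain rfl : j = e := by omega
    refine ⟨minorIdeal_zero _, ?_, fun h => absurd h (lt_irrefl _)⟩
    rw [hMe, CAlgX.minorIdeal, Ideal.span_eq_bot]
    rintro _ ⟨⟨f, g⟩, rfl⟩
    simp
  | succ k ih =>
    intro i hi
    have hie : i < e := by omega
    obtain ⟨r, hr0, hr⟩ := ih (i + 1) (by omega)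
    obtain ⟨htop, hbot, -⟩ := hr (i + 1) le_rfl hie
    obtain ⟨π', hπ'⟩ := exists_proj (M (i + 1)) htop hbot
    set W := LinearMap.range (M (i + 1)).mulVecLin with hW
    obtain ⟨hfree, hfin⟩ := free_quotient_of_proj W π' hπ'
    haveI := hfree
    haveI := hfin
    let Φ := W.mkQ.prod π'
    have hΦ : Function.Bijective Φ := by
      constructor
      · refine (injective_iff_map_eq_zero _).2 fun y hy => ?_
        have h1 : y ∈ W := (Submodule.Quotient.mk_eq_zero W).1 (congrArg Prod.fst hy)
        have h2 : (π' ∘ₗ W.subtype) ⟨y, h1⟩ = (π' ∘ₗ W.subtype) 0 := by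
          rw [map_zero]; exact congrArg Prod.snd hy
        exact congrArg Subtype.val (hπ'.1 h2)
      · rintro ⟨z, v⟩
        obtain ⟨x, rfl⟩ := W.mkQ_surjective z
        obtain ⟨⟨w, hw⟩, hwv⟩ := hπ'.2 (v - π' x)
        refine ⟨x + w, Prod.ext ?_ ?_⟩
        · show W.mkQ (x + w) = W.mkQ x
          rw [map_add, show W.mkQ w = 0 from (Submodule.Quotient.mk_eq_zero W).2 hw, add_zero]
        · show π' (x + w) = v
          rw [map_add, show π' w = v - π' x from hwv, add_sub_cancel]
    let q := Module.finrank S ((Fin (n (i + 1)) → S) ⧸ W)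
    have hq : q + r (i + 1) = n (i + 1) := by
      have := (LinearEquiv.ofBijective Φ hΦ).finrank_eq
      rw [Module.finrank_prod, Module.finrank_fin_fun, Module.finrank_fin_fun] at this
      exact this.symm
    let b := Module.finBasis S ((Fin (n (i + 1)) → S) ⧸ W)
    obtain ⟨σ, hσ⟩ := Module.projective_lifting_property W.mkQ b.equivFun.symm.toLinearMap W.mkQ_surjective
    have hWker : W = LinearMap.ker (M i).mulVecLin := (hex i hie).symm
    let B := LinearMap.toMatrix' σ
    let P := LinearMap.toMatrix' (b.equivFun.toLinearMap ∘ₗ W.mkQ)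
    have hN : ∀ v, (M i * B).mulVecLin v = (M i).mulVecLin (σ v) := fun v => by
      rw [Matrix.mulVecLin_mul, LinearMap.comp_apply]
      simp [B, Matrix.mulVecLin_apply]
    have hinj : Function.Injective (M i * B).mulVecLin := by
      refine (injective_iff_map_eq_zero _).2 fun v hv => ?_
      rw [hN] at hv
      have h1 : W.mkQ (σ v) = 0 := (Submodule.Quotient.mk_eq_zero W).2 ((SetLike.ext_iff.1 hWker _).2 hv)
      have h2 := LinearMap.congr_fun hσ v
      rw [LinearMap.comp_apply, h1] at h2
      exact b.equivFun.symm.map_eq_zero_iff.1 h2.symm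
    obtain ⟨hrk, hdet⟩ := (Groth.Agent.S9278.result S q (n i) (M i * B)).1 hinj
    have hNtop : CAlgX.minorIdeal (M i * B) q = ⊤ := by
      rw [CAlgX.detIdeal, hrk] at hdet
      rcases hdet with h | ⟨a, ha, hareg⟩
      · exact h
      · exact Ideal.eq_top_of_isUnit_mem _ ha (by_contra fun hu => hreg a ((mem_maximalIdeal _).2 hu) hareg)
    have hMN : M i = M i * B * P := by
      refine Matrix.toLin'.injective (LinearMap.ext fun x => ?_)
      rw [Matrix.toLin'_apply, Matrix.toLin'_apply, ← Matrix.mulVec_mulVec]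
      have h1 : P *ᵥ x = b.equivFun (W.mkQ x) := by simp [P]
      have h2 : W.mkQ (σ (b.equivFun (W.mkQ x))) = W.mkQ x := by
        have := LinearMap.congr_fun hσ (b.equivFun (W.mkQ x))
        simpa using this
      have h3 : x - σ (b.equivFun (W.mkQ x)) ∈ W := (Submodule.Quotient.eq W).1 h2.symm
      replace h3 := (SetLike.ext_iff.1 hWker _).1 h3
      rw [LinearMap.mem_ker, map_sub, sub_eq_zero, ← hN, Matrix.mulVecLin_apply,
        Matrix.mulVecLin_apply] at h3
      rw [h1]
      exact h3
    refine ⟨Function.update r i q, ?_, fun j hj hje => ?_⟩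
    · rw [Function.update_of_ne (by omega), hr0]
    · rcases hj.lt_or_eq with hlt | rfl
      · rw [Function.update_of_ne (by omega), Function.update_of_ne (by omega)]
        exact hr j hlt hje
      · rw [Function.update_self, Function.update_of_ne (by omega)]
        refine ⟨top_le_iff.1 (hNtop ▸ minorIdeal_mul_le_left (M i) B q), ?_, fun _ => hq⟩
        refine le_bot_iff.1 ?_
        rw [hMN]
        exact (minorIdeal_mul_le_left (M i * B) P (q + 1)).trans
          (minorIdeal_eq_bot_of_min_lt _ (Nat.lt_succ_self q)).le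

/-- Exactness survives localisation. -/
theorem exact_map_atPrime {R : Type u} [CommRing R] (p : Ideal R) [p.IsPrime] {a b c : ℕ}
    (M : Matrix (Fin a) (Fin b) R) (M' : Matrix (Fin b) (Fin c) R)
    (h : LinearMap.ker M.mulVecLin = LinearMap.range M'.mulVecLin) :
    LinearMap.ker (M.map (algebraMap R (Localization.AtPrime p))).mulVecLin =
      LinearMap.range (M'.map (algebraMap R (Localization.AtPrime p))).mulVecLin := by
  classical
  let φ := algebraMap R (Localization.AtPrime p)
  have hmap : ∀ {a b : ℕ} (N : Matrix (Fin a) (Fin b) R) (x : Fin b → R),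
      (N.map φ).mulVecLin (φ ∘ x) = φ ∘ (N.mulVecLin x) := fun N x => by
    funext k
    simp [Matrix.mulVecLin_apply, RingHom.map_mulVec]
  refine le_antisymm (fun y hy => ?_) ?_
  · obtain ⟨s, hs⟩ := IsLocalization.exist_integer_multiples_of_finite p.primeCompl y
    choose y₀ hy₀ using hs
    have hy₀' : φ ∘ y₀ = (s : R) • y := funext fun l => hy₀ l
    have hzero : ∀ k, φ (M.mulVecLin y₀ k) = 0 := fun k => by
      have h1 : (M.map φ).mulVecLin (φ ∘ y₀) = 0 := by
        rw [hy₀', LinearMap.map_smul_of_tower, show (M.map φ).mulVecLin y = 0 from hy, smul_zero]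
      rw [hmap] at h1
      exact congrFun h1 k
    have hzero' : ∀ k, ∃ c : p.primeCompl, (c : R) * M.mulVecLin y₀ k = 0 :=
      fun k => (IsLocalization.map_eq_zero_iff p.primeCompl (Localization.AtPrime p) _).1 (hzero k)
    choose d hd using hzero'
    let C : p.primeCompl := (∏ k, d k) * s
    have hker : (∏ k, (d k : R)) • y₀ ∈ LinearMap.ker M.mulVecLin := by
      rw [LinearMap.mem_ker, map_smul]
      funext k
      simp only [Pi.smul_apply, smul_eq_mul, Pi.zero_apply]
      rw [← Finset.mul_prod_erase Finset.univ (fun k => (d k : R)) (Finset.mem_univ k),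
        mul_comm (d k : R), mul_assoc, hd k, mul_zero]
    rw [h] at hker
    obtain ⟨w, hw⟩ := hker
    obtain ⟨u, hu⟩ := IsLocalization.map_units (Localization.AtPrime p) C
    refine ⟨((↑u⁻¹ : Localization.AtPrime p)) • (φ ∘ w), ?_⟩
    rw [map_smul, hmap, hw]
    funext k
    have h1 := congrFun hy₀' k
    simp only [Function.comp_apply, Pi.smul_apply, Algebra.smul_def] at h1
    simp only [Pi.smul_apply, Function.comp_apply, smul_eq_mul, map_mul, h1]
    rw [← mul_assoc (φ _), show φ (∏ k, (d k : R)) * φ (s : R) = (u : Localization.AtPrime p) from by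
      rw [hu, ← map_mul]; simp [C, φ], ← mul_assoc, Units.inv_mul, one_mul]
  · rintro _ ⟨w, rfl⟩
    have hMM' : M * M' = 0 := by
      refine Matrix.toLin'.injective (LinearMap.ext fun x => ?_)
      rw [Matrix.toLin'_apply, ← Matrix.mulVec_mulVec]
      have : M'.mulVecLin x ∈ LinearMap.ker M.mulVecLin := h ▸ LinearMap.mem_range_self _ x
      simpa using this
    rw [LinearMap.mem_ker, ← LinearMap.comp_apply, ← Matrix.mulVecLin_mul, ← Matrix.map_mul, hMM']
    simp

/-- The ranks of the maps of an exact complex. -/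
theorem exists_rank {R : Type u} [CommRing R] [IsNoetherianRing R] [Nontrivial R]
    (e : ℕ) (n : ℕ → ℕ) (M : (i : ℕ) → Matrix (Fin (n i)) (Fin (n (i + 1))) R) (hMe : M e = 0)
    (hex : ∀ i, i < e → LinearMap.ker (M i).mulVecLin = LinearMap.range (M (i + 1)).mulVecLin) :
    ∃ r : ℕ → ℕ, r e = 0 ∧ (∀ i, i < e → r i + r (i + 1) = n (i + 1)) ∧
      ∀ i, i ≤ e → CAlgX.minorIdeal (M i) (r i + 1) = ⊥ ∧
        ∃ a ∈ CAlgX.minorIdeal (M i) (r i), IsRegular a := by
  classical
  have hloc : ∀ p ∈ associatedPrimes R R, ∃ r : ℕ → ℕ, r e = 0 ∧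
      (∀ i, i < e → r i + r (i + 1) = n (i + 1)) ∧
      ∀ i, i ≤ e → ¬ CAlgX.minorIdeal (M i) (r i) ≤ p ∧
        ∀ a ∈ CAlgX.minorIdeal (M i) (r i + 1), ∃ s, s ∉ p ∧ s * a = 0 := by
    intro p hp
    haveI hpp : p.IsPrime := hp.1
    let φ := algebraMap R (Localization.AtPrime p)
    have hmax : maximalIdeal (Localization.AtPrime p) ∈
        associatedPrimes (Localization.AtPrime p) (Localization.AtPrime p) := by
      refine Module.associatedPrimes.mem_associatedPrimes_of_comap_mem_associatedPrimes_of_isLocalizedModule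
        p.primeCompl (Algebra.linearMap R (Localization.AtPrime p)) _ ?_
      simpa [Localization.AtPrime.under_maximalIdeal] using hp
    have hreg : ∀ x ∈ maximalIdeal (Localization.AtPrime p), ¬ IsRegular x := fun x hx hxr => by
      have h1 : x ∈ ⋃ q ∈ associatedPrimes (Localization.AtPrime p) (Localization.AtPrime p),
          (q : Set (Localization.AtPrime p)) := Set.mem_biUnion hmax hx
      rw [biUnion_associatedPrimes_eq_compl_nonZeroDivisors] at h1
      exact h1 (isRegular_iff_mem_nonZeroDivisors.1 hxr)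
    obtain ⟨r, hr0, hr⟩ := split_of_no_regular hreg e n (fun i => (M i).map φ)
      (by simp [hMe]) (fun i hi => exact_map_atPrime p _ _ (hex i hi)) e 0 (Nat.zero_add e)
    refine ⟨r, hr0, fun i hi => (hr i (Nat.zero_le _) hi.le).2.2 hi, fun i hi => ?_⟩
    obtain ⟨h1, h2, -⟩ := hr i (Nat.zero_le _) hi
    rw [minorIdeal_map] at h1 h2
    refine ⟨fun hle => ?_, fun a ha => ?_⟩
    · refine (maximalIdeal.isMaximal (Localization.AtPrime p)).ne_top (top_le_iff.1 ?_)
      rw [← h1, ← Localization.AtPrime.map_eq_maximalIdeal]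
      exact Ideal.map_mono hle
    · have : φ a = 0 := by
        have := Ideal.mem_map_of_mem φ ha
        rwa [h2, Ideal.mem_bot] at this
      obtain ⟨⟨s, hs⟩, hsa⟩ := (IsLocalization.map_eq_zero_iff p.primeCompl (Localization.AtPrime p) a).1 this
      exact ⟨s, hs, hsa⟩
  obtain ⟨p₀, hp₀⟩ := associatedPrimes.nonempty R R
  obtain ⟨r, hr0, hr, -⟩ := hloc p₀ hp₀
  refine ⟨r, hr0, hr, fun i hi => ?_⟩
  have huniq : ∀ p ∈ associatedPrimes R R, ¬ CAlgX.minorIdeal (M i) (r i) ≤ p ∧
      ∀ a ∈ CAlgX.minorIdeal (M i) (r i + 1), ∃ s, s ∉ p ∧ s * a = 0 := fun p hp => by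
    obtain ⟨r', hr0', hr', hall⟩ := hloc p hp
    rw [rank_unique hr0 hr0' hr hr' (e - i) i (by omega)]
    exact hall i hi
  refine ⟨?_, ?_⟩
  · refine le_bot_iff.1 fun a ha => ?_
    by_contra ha0
    obtain ⟨p, hp, hle⟩ := exists_le_isAssociatedPrime_of_isNoetherianRing R a (by simpa using ha0)
    obtain ⟨s, hs, hsa⟩ := (huniq p hp).2 a ha
    exact hs (hle (by simpa [Submodule.mem_colon_singleton] using hsa))
  · by_contra hc
    push Not at hc
    have hsub : (CAlgX.minorIdeal (M i) (r i) : Set R) ⊆ ⋃ p ∈ associatedPrimes R R, (p : Set R) := fun a ha => by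
      rw [biUnion_associatedPrimes_eq_compl_nonZeroDivisors]
      exact fun hmem => hc a ha (isRegular_iff_mem_nonZeroDivisors.mpr hmem)
    obtain ⟨p, hp, hle⟩ := (Ideal.subset_union_prime_finite (associatedPrimes.finite R R) (f := fun p => p)
      ⊥ ⊥ (fun p hp _ _ => hp.1) (I := CAlgX.minorIdeal (M i) (r i))).mp hsub
    exact (huniq p hp).1 hle

/-- The depth part. -/
theorem exists_seq : ∀ (i : ℕ) (S : Type u) [CommRing S] [IsLocalRing S] [IsNoetherianRing S]
    (e : ℕ) (n : ℕ → ℕ) (M : (i : ℕ) → Matrix (Fin (n i)) (Fin (n (i + 1))) S),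
    M e = 0 → (∀ i, i < e → LinearMap.ker (M i).mulVecLin = LinearMap.range (M (i + 1)).mulVecLin) →
    ∀ r : ℕ → ℕ, r e = 0 → (∀ i, i < e → r i + r (i + 1) = n (i + 1)) → i ≤ e →
      CAlgX.minorIdeal (M i) (r i) = ⊤ ∨
        ∃ rs : List S, rs.length = i + 1 ∧ (∀ x ∈ rs, x ∈ CAlgX.minorIdeal (M i) (r i)) ∧ IsWeaklyRegular S rs := by
  intro i
  induction i with
  | zero =>
    intro S _ _ _ e n M hMe hex r hr0 hr hie
    obtain ⟨r', hr0', hr', hall⟩ := exists_rank e n M hMe hex
    obtain ⟨-, a, ha, hareg⟩ := hall 0 hie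
    rw [← rank_unique hr0 hr0' hr hr' e 0 (Nat.zero_add e)] at ha
    refine Or.inr ⟨[a], rfl, by simpa using ha, ?_⟩
    rw [isWeaklyRegular_singleton_iff]
    exact hareg.left.isSMulRegular
  | succ i ih =>
    intro S _ _ _ e n M hMe hex r hr0 hr hie
    obtain ⟨r', hr0', hr', hall⟩ := exists_rank e n M hMe hex
    obtain ⟨-, a, ha, hareg⟩ := hall (i + 1) hie
    rw [← rank_unique hr0 hr0' hr hr' (e - (i + 1)) (i + 1) (by omega)] at ha
    by_cases hau : IsUnit a
    · exact Or.inl (Ideal.eq_top_of_isUnit_mem _ ha hau)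
    obtain ⟨e', rfl⟩ : ∃ e', e = e' + 1 := ⟨e - 1, by omega⟩
    let π := Ideal.Quotient.mk (Ideal.span {a})
    haveI : Nontrivial (S ⧸ Ideal.span {a}) :=
      Ideal.Quotient.nontrivial_iff.2 (fun h => hau (Ideal.span_singleton_eq_top.1 h))
    haveI : IsLocalRing (S ⧸ Ideal.span {a}) := IsLocalRing.of_surjective' π Ideal.Quotient.mk_surjective
    have hmap : ∀ {p q : ℕ} (N : Matrix (Fin p) (Fin q) S) (x : Fin q → S),
        (N.map π).mulVecLin (π ∘ x) = π ∘ (N.mulVecLin x) := fun N x => by
      funext k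
      simp [Matrix.mulVecLin_apply, RingHom.map_mulVec]
    have hex' : ∀ j, j < e' → LinearMap.ker ((M (j + 1)).map π).mulVecLin =
        LinearMap.range ((M (j + 1 + 1)).map π).mulVecLin := by
      intro j hj
      refine le_antisymm (fun y hy => ?_) ?_
      · obtain ⟨y, rfl⟩ := Function.Surjective.comp_left (Ideal.Quotient.mk_surjective (I := Ideal.span {a})) y
        rw [LinearMap.mem_ker, hmap] at hy
        have hz : ∀ k, ∃ z, (M (j + 1)).mulVecLin y k = a * z := fun k =>
          (Ideal.mem_span_singleton.1 (Ideal.Quotient.eq_zero_iff_mem.1 (congrFun hy k)))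
        choose z hz using hz
        have hzker : z ∈ LinearMap.range (M (j + 1)).mulVecLin := by
          rw [← hex j (by omega), LinearMap.mem_ker]
          have h0 : (M j).mulVecLin ((M (j + 1)).mulVecLin y) = 0 := by
            rw [← LinearMap.mem_ker, hex j (by omega)]
            exact LinearMap.mem_range_self _ y
          rw [show (M (j + 1)).mulVecLin y = a • z from funext fun k => by simp [hz k], map_smul] at h0
          funext k
          exact hareg.left.isSMulRegular (by simpa using congrFun h0 k)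
        obtain ⟨w, hw⟩ := hzker
        have hv : y - a • w ∈ LinearMap.range (M (j + 1 + 1)).mulVecLin := by
          rw [← hex (j + 1) (by omega), LinearMap.mem_ker, map_sub, map_smul, hw, sub_eq_zero]
          exact funext fun k => by simp [hz k]
        obtain ⟨v, hv⟩ := hv
        refine ⟨π ∘ v, ?_⟩
        rw [hmap, hv]
        funext k
        simp [π, Ideal.Quotient.mk_singleton_self]
      · rintro _ ⟨w, rfl⟩
        obtain ⟨w, rfl⟩ := Function.Surjective.comp_left (Ideal.Quotient.mk_surjective (I := Ideal.span {a})) w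
        rw [LinearMap.mem_ker, hmap, hmap]
        have : (M (j + 1)).mulVecLin ((M (j + 1 + 1)).mulVecLin w) = 0 := by
          rw [← LinearMap.mem_ker, hex (j + 1) (by omega)]
          exact LinearMap.mem_range_self _ w
        rw [this]
        funext k
        simp
    have := ih (S ⧸ Ideal.span {a}) e' (fun j => n (j + 1)) (fun j => (M (j + 1)).map π)
      (by simp [hMe]) hex' (fun j => r (j + 1)) hr0 (fun j hj => hr (j + 1) (by omega)) (by omega)
    rw [minorIdeal_map] at this
    rcases this with htop | ⟨rs, hlen, hmem, hw⟩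
    · refine Or.inl (top_le_iff.1 ?_)
      calc (⊤ : Ideal S) = Ideal.comap π (Ideal.map π (CAlgX.minorIdeal (M (i + 1)) (r (i + 1)))) := by
            rw [htop, Ideal.comap_top]
        _ ≤ _ := by
            rw [Ideal.comap_map_of_surjective π Ideal.Quotient.mk_surjective, ← RingHom.ker_eq_comap_bot,
              Ideal.mk_ker]
            exact sup_le le_rfl ((Ideal.span_singleton_le_iff_mem _).2 ha)
    · have hlift : ∀ l : List (S ⧸ Ideal.span {a}),
          (∀ x ∈ l, x ∈ Ideal.map π (CAlgX.minorIdeal (M (i + 1)) (r (i + 1)))) →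
          ∃ l' : List S, l'.map π = l ∧ ∀ x ∈ l', x ∈ CAlgX.minorIdeal (M (i + 1)) (r (i + 1)) := by
        intro l
        induction l with
        | nil => exact fun _ => ⟨[], rfl, by simp⟩
        | cons x l ihl =>
          intro hl
          obtain ⟨y, hy, hyx⟩ := (Ideal.mem_map_iff_of_surjective π Ideal.Quotient.mk_surjective).1
            (hl x List.mem_cons_self)
          obtain ⟨l', h1, h2⟩ := ihl fun z hz => hl z (List.mem_cons_of_mem _ hz)
          exact ⟨y :: l', by simp [hyx, h1], fun z hz => by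
            rcases List.mem_cons.1 hz with rfl | hz
            · exact hy
            · exact h2 z hz⟩
      obtain ⟨l, rfl, hl⟩ := hlift rs hmem
      refine Or.inr ⟨a :: l, by simpa using hlen, ?_, ?_⟩
      · intro x hx
        rcases List.mem_cons.1 hx with rfl | hx
        · exact ha
        · exact hl x hx
      · rw [isWeaklyRegular_cons_iff]
        refine ⟨hareg.left.isSMulRegular, ?_⟩
        have hI : a • (⊤ : Submodule S S) = Ideal.span {a} := by
          rw [← Submodule.ideal_span_singleton_smul, smul_eq_mul, Ideal.mul_top]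
        exact ((Submodule.quotEquivOfEq _ _ hI).isWeaklyRegular_congr l).2
          ((isWeaklyRegular_map_algebraMap_iff (S := S ⧸ Ideal.span {a}) (M := S ⧸ Ideal.span {a}) l).1 hw)

end BELib
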