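import Groth.Agent.BELib.Split
import Groth.Agent.AcycLib.Basic

/-!
# The Buchsbaum–Eisenbud acyclicity criterion
-/

set_option autoImplicit false
universe u

open Matrix RingTheory.Sequence IsLocalRing
open Groth.Agent

namespace BELib

variable {S : Type u} [CommRing S] [IsLocalRing S] [IsNoetherianRing S]

theorem le_depth_of_equiv {X Y : Type u} [AddCommGroup X] [Module S X] [Module.Finite S X] [AddCommGroup Y]
    [Module S Y] [Module.Finite S Y] (e : X ≃ₗ[S] Y) (d : ℕ) (h : (d : ℕ∞) ≤ LocCoh.depth S X) :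
    (d : ℕ∞) ≤ LocCoh.depth S Y := by
  refine AcycLib.le_depth_quot (0 : (Fin 0 → S) →ₗ[S] X) e.toLinearMap (fun a b _ => Subsingleton.elim a b)
    e.surjective (fun y => ⟨fun hy => ⟨0, ?_⟩, ?_⟩) d h ?_
  · rw [map_zero]; exact (e.injective (hy.trans (map_zero e).symm)).symm
  · rintro ⟨z, rfl⟩
    exact map_zero e
  · rw [AcycLib.depth_subsingleton]; exact le_top

/-- Exactness of the complex over a local ring, given exactness on the punctured spectrum. -/
theorem exact_local (e : ℕ) (n : ℕ → ℕ) (M : (i : ℕ) → Matrix (Fin (n i)) (Fin (n (i + 1))) S)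
    (hM : ∀ i, i < e → M i * M (i + 1) = 0) (r : ℕ → ℕ)
    (hr : ∀ i, i < e → r i + r (i + 1) = n (i + 1))
    (hvan : ∀ i, i ≤ e → CAlgX.minorIdeal (M i) (r i + 1) = ⊥)
    (hdet : ∀ i, i ≤ e → CAlgX.minorIdeal (M i) (r i) = ⊤ ∨ (i < e ∧
      ∃ rs : List S, rs.length = i + 1 ∧ (∀ x ∈ rs, x ∈ maximalIdeal S) ∧ IsWeaklyRegular S rs))
    (hpunct : ∀ i, i < e → ∀ Q : Ideal S, Q.IsPrime → Q ≠ maximalIdeal S →
      ∀ y ∈ LinearMap.ker (M i).mulVecLin, ∃ t, t ∉ Q ∧ t • y ∈ LinearMap.range (M (i + 1)).mulVecLin) :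
    ∀ i, i < e → LinearMap.ker (M i).mulVecLin ≤ LinearMap.range (M (i + 1)).mulVecLin := by
  classical
  let f : ∀ i, (Fin (n (i + 1)) → S) →ₗ[S] (Fin (n i) → S) := fun i => (M i).mulVecLin
  have hff : ∀ i, i < e → f i ∘ₗ f (i + 1) = 0 := fun i hi => by
    show (M i).mulVecLin ∘ₗ (M (i + 1)).mulVecLin = 0
    rw [← Matrix.mulVecLin_mul, hM i hi]
    simp
  have hle : ∀ i, i < e → LinearMap.range (f (i + 1)) ≤ LinearMap.ker (f i) := fun i hi => by
    rintro _ ⟨w, rfl⟩
    exact LinearMap.congr_fun (hff i hi) w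
  let P : ℕ → Prop := fun i => CAlgX.minorIdeal (M i) (r i) = ⊤
  -- `d` bounds the non split maps
  obtain ⟨d, hd0, hdd, hsplit⟩ : ∃ d, d ≤ e ∧
      (d ≠ 0 → ∃ rs : List S, rs.length = d ∧ (∀ x ∈ rs, x ∈ maximalIdeal S) ∧ IsWeaklyRegular S rs) ∧
      ∀ i, d ≤ i → i ≤ e → P i := by
    let D : Finset ℕ := (Finset.range (e + 1)).filter fun i => ¬ P i
    by_cases hD : D.Nonempty
    · obtain ⟨i₀, hi₀, hmax⟩ := D.exists_max_image id hD
      obtain ⟨hi₀e, hi₀P⟩ := Finset.mem_filter.1 hi₀
      obtain ⟨hlt, rs, h1, h2, h3⟩ := (hdet i₀ (by simpa [Nat.lt_succ_iff] using hi₀e)).resolve_left hi₀P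
      refine ⟨i₀ + 1, hlt, fun _ => ⟨rs, h1, h2, h3⟩, fun i hi hie => ?_⟩
      by_contra hP
      have := hmax i (Finset.mem_filter.2 ⟨Finset.mem_range.2 (by omega), hP⟩)
      simp only [id] at this
      omega
    · refine ⟨0, Nat.zero_le _, fun h => absurd rfl h, fun i _ hie => ?_⟩
      by_contra hP
      exact hD ⟨i, Finset.mem_filter.2 ⟨Finset.mem_range.2 (by omega), hP⟩⟩
  have hdepth : ∀ j a : ℕ, j ≤ d → (j : ℕ∞) ≤ LocCoh.depth S (Fin a → S) := by
    intro j a hj
    rcases Nat.eq_zero_or_pos d with h0 | h0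
    · obtain rfl : j = 0 := by omega
      simp
    · obtain ⟨rs, h1, h2, h3⟩ := hdd (by omega)
      refine le_trans ?_ (AcycLib.length_le_depth_pi a rs h2 h3)
      rw [h1]
      exact_mod_cast hj
  have hproj : ∀ i, d ≤ i → i ≤ e → ∃ π : (Fin (n i) → S) →ₗ[S] (Fin (r i) → S),
      Function.Bijective (π ∘ₗ (LinearMap.range (f i)).subtype) :=
    fun i hi hie => exists_proj (M i) (hsplit i hi hie) (hvan i hie)
  -- split part
  have hEsplit : ∀ i, d ≤ i → i < e → LinearMap.ker (f i) ≤ LinearMap.range (f (i + 1)) := by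
    intro i hi hie x hx
    obtain ⟨π, hπ⟩ := hproj i hi hie.le
    obtain ⟨π', hπ'⟩ := hproj (i + 1) (by omega) hie
    exact exact_of_proj (f i) (f (i + 1)) (hff i hie) (hr i hie) π hπ π' hπ' x hx
  -- vanishing of homology of positive depth
  have hkill : ∀ i, i < e → ((1 : ℕ) : ℕ∞) ≤ LocCoh.depth S
      (LinearMap.ker (f i) ⧸ (LinearMap.range (f (i + 1))).comap (LinearMap.ker (f i)).subtype) →
      LinearMap.ker (f i) ≤ LinearMap.range (f (i + 1)) := by
    intro i hie hdep y hy
    obtain ⟨ρ, hρm, hρ⟩ := AcycLib.exists_regular_of_one_le_depth hdep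
    let Ann : Ideal S := (LinearMap.range (f (i + 1))).comap (LinearMap.toSpanSingleton S _ y)
    obtain ⟨k, hk⟩ : ∃ k : ℕ, ρ ^ k ∈ Ann := by
      by_contra hc
      push Not at hc
      obtain ⟨Q, hQ, hAQ, hdisj⟩ := Ideal.exists_le_prime_disjoint Ann (Submonoid.powers ρ)
        (Set.disjoint_right.2 fun x hx => by obtain ⟨k, rfl⟩ := hx; exact hc k)
      have hρQ : ρ ∉ Q := fun h => Set.disjoint_left.1 hdisj h (Submonoid.mem_powers ρ)
      obtain ⟨t, ht, hty⟩ := hpunct i hie Q hQ (fun h => hρQ (h ▸ hρm)) y hy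
      exact ht (hAQ hty)
    have h0 : ρ ^ k • (Submodule.Quotient.mk ⟨y, hy⟩ :
        LinearMap.ker (f i) ⧸ (LinearMap.range (f (i + 1))).comap (LinearMap.ker (f i)).subtype) = 0 := by
      rw [← Submodule.Quotient.mk_smul, Submodule.Quotient.mk_eq_zero]
      exact hk
    have h1 := (hρ.pow k) (h0.trans (smul_zero _).symm)
    rw [Submodule.Quotient.mk_eq_zero] at h1
    exact h1
  -- the position `d`
  have hEd : ∀ i, i + 1 = d → LinearMap.ker (f i) ≤ LinearMap.range (f (i + 1)) ∧
      (d : ℕ∞) ≤ LocCoh.depth S (LinearMap.range (f i)) := by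
    intro i hid
    have hie : i < e := by omega
    obtain ⟨π', hπ'⟩ := hproj (i + 1) (by omega) hie
    set W := LinearMap.range (f (i + 1)) with hW
    obtain ⟨hfree, hfin⟩ := free_quotient_of_proj W π' hπ'
    haveI := hfree
    haveI := hfin
    let b := Module.finBasis S ((Fin (n (i + 1)) → S) ⧸ W)
    have hQ : (d : ℕ∞) ≤ LocCoh.depth S ((Fin (n (i + 1)) → S) ⧸ W) :=
      le_depth_of_equiv b.equivFun.symm d (hdepth d _ le_rfl)
    have hker : LinearMap.ker (f i) ≤ W := by
      refine hkill i hie ?_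
      refine AcycLib.one_le_depth_of_injective
        ((W.comap (LinearMap.ker (f i)).subtype).liftQ (W.mkQ ∘ₗ (LinearMap.ker (f i)).subtype)
          (fun z hz => by
            rw [LinearMap.mem_ker]
            exact (Submodule.Quotient.mk_eq_zero W).2 hz)) ?_
        (le_trans (by exact_mod_cast (show 1 ≤ d by omega)) hQ)
      refine (injective_iff_map_eq_zero _).2 fun z hz => ?_
      obtain ⟨z, rfl⟩ := Submodule.mkQ_surjective _ z
      exact (Submodule.Quotient.mk_eq_zero _).2 ((Submodule.Quotient.mk_eq_zero W).1 hz)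
    refine ⟨hker, ?_⟩
    have hWeq : W = LinearMap.ker (f i) := le_antisymm (hle i hie) hker
    exact le_depth_of_equiv ((Submodule.quotEquivOfEq _ _ hWeq).trans (f i).quotKerEquivRange) d hQ
  -- descending induction
  have hdown : ∀ k i, i + 1 + k = d → LinearMap.ker (f i) ≤ LinearMap.range (f (i + 1)) ∧
      ((i + 1 : ℕ) : ℕ∞) ≤ LocCoh.depth S (LinearMap.range (f i)) := by
    intro k
    induction k with
    | zero =>
      intro i hi
      obtain ⟨h1, h2⟩ := hEd i (by omega)
      refine ⟨h1, le_trans ?_ h2⟩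
      exact_mod_cast (show i + 1 ≤ d by omega)
    | succ k ih =>
      intro i hi
      have hie : i < e := by omega
      obtain ⟨-, hB⟩ := ih (i + 1) (by omega)
      have hker : LinearMap.ker (f i) ≤ LinearMap.range (f (i + 1)) := by
        refine hkill i hie (AcycLib.one_le_depth_subquot (hdepth 1 _ (by omega)) _ _ (hle i hie) (le_trans ?_ hB))
        exact_mod_cast (show 2 ≤ i + 1 + 1 by omega)
      refine ⟨hker, AcycLib.le_depth_range_of_exact (f (i + 1)) (f i) ?_ (i + 1) (hdepth _ _ (by omega)) hB⟩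
      exact LinearMap.exact_iff.2 (le_antisymm hker (hle i hie))
  intro i hie
  by_cases hid : d ≤ i
  · exact hEsplit i hid hie
  · exact (hdown (d - (i + 1)) i (by omega)).1

/-- The criterion over a Noetherian ring. -/
theorem exact_global {R : Type u} [CommRing R] [IsNoetherianRing R] (e : ℕ) (n : ℕ → ℕ)
    (M : (i : ℕ) → Matrix (Fin (n i)) (Fin (n (i + 1))) R)
    (hM : ∀ i, i < e → M i * M (i + 1) = 0) (r : ℕ → ℕ)
    (hr : ∀ i, i < e → r i + r (i + 1) = n (i + 1))
    (hvan : ∀ i, i ≤ e → CAlgX.minorIdeal (M i) (r i + 1) = ⊥)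
    (hdet : ∀ i, i ≤ e → CAlgX.minorIdeal (M i) (r i) = ⊤ ∨ (i < e ∧
      ∃ rs : List R, rs.length = i + 1 ∧ (∀ x ∈ rs, x ∈ CAlgX.minorIdeal (M i) (r i)) ∧ IsWeaklyRegular R rs)) :
    ∀ i, i < e → LinearMap.ker (M i).mulVecLin = LinearMap.range (M (i + 1)).mulVecLin := by
  classical
  have key : ∀ (h : ℕ∞) (p : Ideal R), p.IsPrime → p.height = h → ∀ i, i < e →
      ∀ x ∈ LinearMap.ker (M i).mulVecLin, ∃ s, s ∉ p ∧ s • x ∈ LinearMap.range (M (i + 1)).mulVecLin := by
    intro h
    induction h using WellFoundedLT.induction with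
    | ind h ih =>
    intro p hp hph
    haveI := hp
    let φ := algebraMap R (Localization.AtPrime p)
    have hmap : ∀ {a b : ℕ} (N : Matrix (Fin a) (Fin b) R) (x : Fin b → R),
        (N.map φ).mulVecLin (φ ∘ x) = φ ∘ (N.mulVecLin x) := fun N x => by
      funext k
      simp [Matrix.mulVecLin_apply, RingHom.map_mulVec]
    have hexact := exact_local (S := Localization.AtPrime p) e n (fun i => (M i).map φ)
      (fun i hi => by rw [← Matrix.map_mul, hM i hi]; exact Matrix.map_zero _ (map_zero φ)) r hr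
      (fun i hi => by rw [minorIdeal_map, hvan i hi, Ideal.map_bot])
      (fun i hi => by
        rcases hdet i hi with h1 | ⟨h1, rs, h2, h3, h4⟩
        · exact Or.inl (by rw [minorIdeal_map, h1, Ideal.map_top])
        · by_cases hI : CAlgX.minorIdeal (M i) (r i) ≤ p
          · refine Or.inr ⟨h1, rs.map φ, by rw [List.length_map, h2], fun x hx => ?_,
              IsWeaklyRegular.of_flat h4⟩
            obtain ⟨y, hy, rfl⟩ := List.mem_map.1 hx
            rw [← Localization.AtPrime.map_eq_maximalIdeal]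
            exact Ideal.mem_map_of_mem φ (hI (h3 y hy))
          · obtain ⟨y, hy, hyp⟩ := SetLike.not_le_iff_exists.1 hI
            refine Or.inl ?_
            rw [minorIdeal_map]
            exact Ideal.eq_top_of_isUnit_mem _ (Ideal.mem_map_of_mem φ hy)
              (IsLocalization.map_units (Localization.AtPrime p) (⟨y, hyp⟩ : p.primeCompl)))
      ?_
    · intro i hi x hx
      have hx' : φ ∘ x ∈ LinearMap.ker ((M i).map φ).mulVecLin := by
        rw [LinearMap.mem_ker, hmap, show (M i).mulVecLin x = 0 from hx]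
        funext k
        simp
      obtain ⟨w, hw⟩ := hexact i hi hx'
      obtain ⟨t, ht⟩ := IsLocalization.exist_integer_multiples_of_finite p.primeCompl w
      choose w₀ hw₀ using ht
      have hk : ∀ k, φ ((M (i + 1)).mulVecLin w₀ k) = φ ((t : R) * x k) := fun k => by
        have h1 : ((M (i + 1)).map φ).mulVecLin (φ ∘ w₀) = (t : R) • (φ ∘ x) := by
          rw [show φ ∘ w₀ = (t : R) • w from funext fun l => hw₀ l, LinearMap.map_smul_of_tower, hw]
        rw [hmap] at h1
        have := congrFun h1 k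
        simp only [Function.comp_apply, Pi.smul_apply, Algebra.smul_def] at this
        rw [this, map_mul]
      have hk' : ∀ k, ∃ c : p.primeCompl, (c : R) * (M (i + 1)).mulVecLin w₀ k = (c : R) * ((t : R) * x k) :=
        fun k => (IsLocalization.eq_iff_exists p.primeCompl (Localization.AtPrime p)).1 (hk k)
      choose c hc using hk'
      refine ⟨(∏ k, (c k : R)) * t, ?_, (∏ k, (c k : R)) • w₀, ?_⟩
      · exact (Submonoid.mul_mem _ (Submonoid.prod_mem _ fun k _ => (c k).2) t.2 :
          (∏ k, (c k : R)) * t ∈ p.primeCompl)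
      · rw [map_smul]
        funext k
        simp only [Pi.smul_apply, smul_eq_mul]
        rw [← Finset.mul_prod_erase Finset.univ (fun k => (c k : R)) (Finset.mem_univ k)]
        linear_combination (∏ l ∈ Finset.univ.erase k, (c l : R)) * hc k
    · intro i hi Q hQ hne y hy
      let q := Q.comap φ
      haveI : q.IsPrime := inferInstance
      have hqp : q < p := by
        refine lt_of_le_of_ne ?_ fun heq => hne ?_
        · intro a ha
          by_contra hap
          exact hQ.ne_top (Ideal.eq_top_of_isUnit_mem Q ha (IsLocalization.map_units (Localization.AtPrime p) (⟨a, hap⟩ : p.primeCompl)))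
        · rw [← IsLocalization.map_comap p.primeCompl (Localization.AtPrime p) Q, show Q.under R = p from heq]
          exact Localization.AtPrime.map_eq_maximalIdeal
      have hlt : q.height < h := hph ▸ Ideal.height_strict_mono_of_isPrime hqp
      obtain ⟨s, hs⟩ := IsLocalization.exist_integer_multiples_of_finite p.primeCompl y
      choose y₀ hy₀ using hs
      have hy₀' : φ ∘ y₀ = (s : R) • y := funext fun l => hy₀ l
      have hzero : ∀ k, φ ((M i).mulVecLin y₀ k) = 0 := fun k => by
        have h1 : ((M i).map φ).mulVecLin (φ ∘ y₀) = 0 := by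
          rw [hy₀', LinearMap.map_smul_of_tower, show ((M i).map φ).mulVecLin y = 0 from hy, smul_zero]
        rw [hmap] at h1
        exact congrFun h1 k
      have hzero' : ∀ k, ∃ c : p.primeCompl, (c : R) * (M i).mulVecLin y₀ k = 0 :=
        fun k => (IsLocalization.map_eq_zero_iff p.primeCompl (Localization.AtPrime p) _).1 (hzero k)
      choose c hc using hzero'
      let C := ∏ k, (c k : R)
      have hC : C ∈ p.primeCompl := Submonoid.prod_mem _ fun k _ => (c k).2
      have hker : C • y₀ ∈ LinearMap.ker (M i).mulVecLin := by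
        rw [LinearMap.mem_ker, map_smul]
        funext k
        simp only [Pi.smul_apply, smul_eq_mul, Pi.zero_apply, C]
        rw [← Finset.mul_prod_erase Finset.univ (fun k => (c k : R)) (Finset.mem_univ k),
          mul_comm (c k : R), mul_assoc, hc k, mul_zero]
      obtain ⟨u, hu, w, hw⟩ := ih q.height hlt q inferInstance rfl i hi _ hker
      refine ⟨φ (u * C * s), fun hmem => ?_, φ ∘ w, ?_⟩
      · rcases (inferInstance : q.IsPrime).mem_or_mem (show u * C * s ∈ q from hmem) with h1 | h1
        · rcases (inferInstance : q.IsPrime).mem_or_mem h1 with h2 | h2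
          · exact hu h2
          · exact hC (hqp.le h2)
        · exact s.2 (hqp.le h1)
      · rw [hmap, hw]
        funext k
        have h1 := congrFun hy₀' k
        simp only [Function.comp_apply, Pi.smul_apply, Algebra.smul_def] at h1
        simp only [Function.comp_apply, Pi.smul_apply, smul_eq_mul, map_mul]
        rw [h1]
        ring
  intro i hi
  refine le_antisymm (fun x hx => ?_) ?_
  · let J : Ideal R := (LinearMap.range (M (i + 1)).mulVecLin).comap (LinearMap.toSpanSingleton R _ x)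
    have hJ : J = ⊤ := by
      by_contra hJ
      obtain ⟨p, hp, hJp⟩ := Ideal.exists_le_maximal J hJ
      obtain ⟨s, hs, hsx⟩ := key _ p hp.isPrime rfl i hi x hx
      exact hs (hJp hsx)
    have : (1 : R) • x ∈ LinearMap.range (M (i + 1)).mulVecLin := (hJ ▸ Submodule.mem_top : (1 : R) ∈ J)
    rwa [one_smul] at this
  · rintro _ ⟨w, rfl⟩
    rw [LinearMap.mem_ker, ← LinearMap.comp_apply, ← Matrix.mulVecLin_mul, hM i hi]
    simp

end BELib
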