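import Mathlib
import Groth.Prelude.Def_CAlgX

/-!
# Matrices with a unit determinantal ideal over a local ring
-/

set_option autoImplicit false
universe u v

open Matrix

namespace BELib

variable {R : Type u} [CommRing R]

theorem minorIdeal_map {T : Type v} [CommRing T] (φ : R →+* T) {a b : ℕ} (M : Matrix (Fin a) (Fin b) R) (r : ℕ) :
    CAlgX.minorIdeal (M.map φ) r = (CAlgX.minorIdeal M r).map φ := by
  rw [CAlgX.minorIdeal, CAlgX.minorIdeal, Ideal.map_span, ← Set.range_comp]
  congr 1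
  refine congrArg Set.range (funext fun fg => ?_)
  show ((M.map φ).submatrix fg.1 fg.2).det = φ ((M.submatrix fg.1 fg.2).det)
  rw [RingHom.map_det, RingHom.mapMatrix_apply, Matrix.submatrix_map]

theorem minorIdeal_eq_bot_of_min_lt {a b : ℕ} (M : Matrix (Fin a) (Fin b) R) {r : ℕ} (hr : b < r) :
    CAlgX.minorIdeal M r = ⊥ := by
  rw [CAlgX.minorIdeal, Ideal.span_eq_bot]
  rintro _ ⟨⟨f, g⟩, rfl⟩
  obtain ⟨i, j, hij, hg⟩ := Fintype.exists_ne_map_eq_of_card_lt g (by simpa using hr)
  exact Matrix.det_zero_of_column_eq hij fun k => by simp [hg]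

theorem minorIdeal_succ_matrixRank {a b : ℕ} (M : Matrix (Fin a) (Fin b) R) :
    CAlgX.minorIdeal M (CAlgX.matrixRank M + 1) = ⊥ := by
  by_contra h
  have hb : BddAbove {r : ℕ | CAlgX.minorIdeal M r ≠ ⊥} :=
    ⟨b, fun r hr => not_lt.1 fun hlt => hr (minorIdeal_eq_bot_of_min_lt M hlt)⟩
  have : CAlgX.matrixRank M + 1 ≤ CAlgX.matrixRank M := le_csSup hb h
  omega

variable [IsLocalRing R]

/-- A rank `r` matrix with a unit `r`-minor has image projecting isomorphically onto `r` coordinates. -/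
theorem exists_proj {a b r : ℕ} (M : Matrix (Fin a) (Fin b) R) (htop : CAlgX.minorIdeal M r = ⊤)
    (hvan : CAlgX.minorIdeal M (r + 1) = ⊥) :
    ∃ π : (Fin a → R) →ₗ[R] (Fin r → R),
      Function.Bijective (π ∘ₗ (LinearMap.range M.mulVecLin).subtype) := by
  classical
  obtain ⟨f, g, hu⟩ : ∃ (f : Fin r → Fin a) (g : Fin r → Fin b), IsUnit (M.submatrix f g).det := by
    by_contra hc
    push Not at hc
    refine (IsLocalRing.maximalIdeal.isMaximal R).ne_top (top_le_iff.1 (htop ▸ ?_))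
    rw [CAlgX.minorIdeal, Ideal.span_le]
    rintro _ ⟨⟨f, g⟩, rfl⟩
    exact (IsLocalRing.mem_maximalIdeal _).2 (hc f g)
  let B := M.submatrix f g
  let π : (Fin a → R) →ₗ[R] (Fin r → R) := LinearMap.funLeft R R f
  have hB : IsUnit B := (Matrix.isUnit_iff_isUnit_det B).2 hu
  letI : Invertible B := hB.invertible
  have hcol : ∀ (i : Fin a) (c : Fin b),
      M i c = ∑ k, M i (g k) * (⅟B *ᵥ fun l => M (f l) c) k := by
    intro i c
    have hmem : (M.submatrix (Sum.elim f (fun _ : Fin 1 => i) ∘ finSumFinEquiv.symm)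
        (Sum.elim g (fun _ : Fin 1 => c) ∘ finSumFinEquiv.symm)).det ∈ CAlgX.minorIdeal M (r + 1) :=
      Ideal.subset_span ⟨(_, _), rfl⟩
    rw [hvan, Ideal.mem_bot] at hmem
    have hblk : M.submatrix (Sum.elim f (fun _ : Fin 1 => i)) (Sum.elim g (fun _ : Fin 1 => c)) =
        Matrix.fromBlocks B (Matrix.of fun l _ => M (f l) c) (Matrix.of fun _ k => M i (g k))
          (Matrix.of fun _ _ => M i c) := by
      ext (x | x) (y | y) <;> rfl
    rw [← Matrix.submatrix_submatrix, Matrix.det_submatrix_equiv_self, hblk, Matrix.det_fromBlocks₁₁] at hmem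
    have h0 := hu.mul_right_eq_zero.1 hmem
    rw [Matrix.det_fin_one] at h0
    rw [Matrix.sub_apply, sub_eq_zero] at h0
    rw [show M i c = (Matrix.of fun (_ : Fin 1) (_ : Fin 1) => M i c) 0 0 from rfl, h0, Matrix.mul_assoc]
    simp only [Matrix.mul_apply, Matrix.mulVec, dotProduct, Matrix.of_apply]
  refine ⟨π, ?_, fun v => ?_⟩
  · refine (injective_iff_map_eq_zero _).2 ?_
    rintro ⟨y, x, rfl⟩ hy
    refine Subtype.ext ?_
    let w : Fin r → R := ∑ c, x c • (⅟B *ᵥ fun l => M (f l) c)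
    have hyw : ∀ i, M.mulVecLin x i = ∑ k, M i (g k) * w k := by
      intro i
      simp only [Matrix.mulVecLin_apply, Matrix.mulVec, dotProduct]
      conv_lhs => enter [2, c]; rw [hcol i c, Finset.sum_mul]
      rw [Finset.sum_comm]
      refine Finset.sum_congr rfl fun k _ => ?_
      simp only [w, Finset.sum_apply, Pi.smul_apply, smul_eq_mul, Matrix.mulVec, dotProduct, Finset.mul_sum]
      exact Finset.sum_congr rfl fun c _ => by rw [Finset.sum_mul]; exact Finset.sum_congr rfl fun l _ => by ring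
    have hBw : B *ᵥ w = 0 := funext fun l => by
      have := congrFun hy l
      simp only [LinearMap.coe_comp, Function.comp_apply, Submodule.subtype_apply, π, LinearMap.funLeft_apply,
        Pi.zero_apply] at this
      rw [hyw] at this
      exact this
    have hw : w = 0 := by
      rw [← Matrix.one_mulVec w, ← invOf_mul_self B, ← Matrix.mulVec_mulVec, hBw, Matrix.mulVec_zero]
    funext i
    show M.mulVecLin x i = 0
    rw [hyw, hw]
    simp
  · let w := ⅟B *ᵥ v
    refine ⟨⟨∑ k, w k • (fun i => M i (g k)), ?_⟩, funext fun l => ?_⟩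
    · refine Submodule.sum_mem _ fun k _ => Submodule.smul_mem _ _ ⟨Pi.single (g k) 1, funext fun i => ?_⟩
      simp [Matrix.mulVecLin_apply]
    · have : B *ᵥ w = v := by rw [Matrix.mulVec_mulVec, mul_invOf_self, Matrix.one_mulVec]
      rw [← congrFun this l]
      simp [π, B, Matrix.mulVec, dotProduct, LinearMap.funLeft_apply, mul_comm]

/-- Two consecutive split maps of complementary ranks are exact. -/
theorem exact_of_proj {a b c r r' : ℕ} (f : (Fin b → R) →ₗ[R] (Fin a → R)) (f' : (Fin c → R) →ₗ[R] (Fin b → R))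
    (hff' : f ∘ₗ f' = 0) (hr : r + r' = b)
    (π : (Fin a → R) →ₗ[R] (Fin r → R)) (hπ : Function.Bijective (π ∘ₗ (LinearMap.range f).subtype))
    (π' : (Fin b → R) →ₗ[R] (Fin r' → R)) (hπ' : Function.Bijective (π' ∘ₗ (LinearMap.range f').subtype))
    (x : Fin b → R) (hx : f x = 0) : x ∈ LinearMap.range f' := by
  let Φ : (Fin b → R) →ₗ[R] (Fin r → R) × (Fin r' → R) := (π ∘ₗ f).prod π'
  have hsurj : Function.Surjective Φ := by
    rintro ⟨u, v⟩
    obtain ⟨⟨y, x₀, rfl⟩, hy⟩ := hπ.2 u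
    obtain ⟨⟨y', w, rfl⟩, hy'⟩ := hπ'.2 (v - π' x₀)
    refine ⟨x₀ + f' w, Prod.ext ?_ ?_⟩
    · show π (f (x₀ + f' w)) = u
      rw [map_add, show f (f' w) = 0 from LinearMap.congr_fun hff' w, add_zero]
      exact hy
    · show π' (x₀ + f' w) = v
      rw [map_add, show π' (f' w) = v - π' x₀ from hy', add_sub_cancel]
  let e : ((Fin r → R) × (Fin r' → R)) ≃ₗ[R] (Fin b → R) :=
    (LinearEquiv.sumArrowLequivProdArrow (Fin r) (Fin r') R R).symm.trans
      (LinearEquiv.funCongrLeft R R (finSumFinEquiv.trans (finCongr hr)).symm)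
  have hinj : Function.Injective (e.toLinearMap ∘ₗ Φ) :=
    OrzechProperty.injective_of_surjective_endomorphism _ (e.surjective.comp hsurj)
  obtain ⟨⟨y, w, rfl⟩, hy⟩ := hπ'.2 (π' x)
  refine ⟨w, hinj (congrArg e (Prod.ext ?_ ?_))⟩
  · show π (f (f' w)) = π (f x)
    rw [hx, show f (f' w) = 0 from LinearMap.congr_fun hff' w]
  · exact hy

/-- The cokernel of a split map is free. -/
theorem free_quotient_of_proj {b r' : ℕ} (W : Submodule R (Fin b → R)) (π' : (Fin b → R) →ₗ[R] (Fin r' → R))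
    (hπ' : Function.Bijective (π' ∘ₗ W.subtype)) :
    Module.Free R ((Fin b → R) ⧸ W) ∧ Module.Finite R ((Fin b → R) ⧸ W) := by
  haveI : Module.Finite R ((Fin b → R) ⧸ W) := inferInstance
  let e := LinearEquiv.ofBijective _ hπ'
  let σ : (Fin b → R) →ₗ[R] (Fin b → R) := LinearMap.id - W.subtype ∘ₗ e.symm.toLinearMap ∘ₗ π'
  have hσ : W ≤ LinearMap.ker σ := fun y hy => by
    rw [LinearMap.mem_ker]
    have : e.symm (π' y) = ⟨y, hy⟩ := e.symm_apply_eq.2 rfl
    simp [σ, this]
  haveI : Module.Projective R ((Fin b → R) ⧸ W) := by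
    refine Module.Projective.of_split (W.liftQ σ hσ) W.mkQ (LinearMap.ext fun y => ?_)
    obtain ⟨y, rfl⟩ := W.mkQ_surjective y
    show W.mkQ (σ y) = W.mkQ y
    refine (Submodule.Quotient.eq W).2 ?_
    simp [σ]
  haveI : Module.Flat R ((Fin b → R) ⧸ W) := inferInstance
  exact ⟨Module.free_of_flat_of_isLocalRing, inferInstance⟩

end BELib
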